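import Groth.Agent.PerfGen.Open
import Mathlib

/-!
# Gluing objects of `D(O_X)` on two opens
-/

set_option autoImplicit false
set_option backward.isDefEq.respectTransparency false
set_option backward.isDefEq.respectTransparency.types false
set_option linter.style.haveILetI false
set_option linter.unusedSectionVars false

universe u

open CategoryTheory Category Limits Pretriangulated AlgebraicGeometry

attribute [local instance] HasDerivedCategory.standard

namespace Groth.Agent.DCohGlue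

open Groth.Agent.DQCoh (RD rdComp rdCongr)
open Groth.Agent.PerfGen

section Abstract

variable {D : Type*} [Category D] [Preadditive D] [HasZeroObject D] [HasShift D ℤ]
  [∀ n : ℤ, (shiftFunctor D n).Additive] [Pretriangulated D]

/-- the first leg of a fibre of `(g₁, g₂)` with `g₂` an isomorphism -/
theorem isIso_fst {F P A B C : D} (f : F ⟶ P) (g : P ⟶ C) (h : C ⟶ F⟦(1 : ℤ)⟧)
    (hT : Triangle.mk f g h ∈ distTriang D) (il : A ⟶ P) (ir : B ⟶ P) (pl : P ⟶ A) (pr : P ⟶ B)
    (hll : il ≫ pl = 𝟙 A) (hrl : ir ≫ pl = 0) (tot : pl ≫ il + pr ≫ ir = 𝟙 P) (hiso : IsIso (ir ≫ g)) :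
    IsIso (f ≫ pl) := by
  have hfg : f ≫ g = 0 := comp_distTriang_mor_zero₁₂ _ hT
  have hh : h = 0 := by
    have h23 : g ≫ h = 0 := comp_distTriang_mor_zero₂₃ _ hT
    rw [← cancel_epi (ir ≫ g), assoc, h23, comp_zero, comp_zero]
  haveI : Mono f := Triangle.mono₁ _ hT hh
  let t : A ⟶ P := il - il ≫ g ≫ inv (ir ≫ g) ≫ ir
  have htg : t ≫ g = 0 := by
    simp only [t, Preadditive.sub_comp, assoc, IsIso.inv_hom_id, comp_id, sub_self]
  obtain ⟨s, hs⟩ := Triangle.coyoneda_exact₂ _ hT t htg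
  have hs' : s ≫ f ≫ pl = 𝟙 A := by
    rw [← assoc, ← show t = s ≫ f from hs]
    simp [t, hll, hrl]
  haveI : Mono (f ≫ pl) := by
    refine Preadditive.mono_of_cancel_zero _ fun x hx => ?_
    have h1 : (x ≫ f ≫ pr) ≫ (ir ≫ g) = 0 := by
      have : f ≫ pr ≫ ir ≫ g = f ≫ g - f ≫ pl ≫ il ≫ g := by
        rw [← Preadditive.comp_sub]
        congr 1
        rw [eq_sub_iff_add_eq, add_comm, ← assoc, ← assoc, ← Preadditive.add_comp, tot, id_comp]
      simp only [assoc]
      rw [this, hfg, zero_sub, Preadditive.comp_neg, ← assoc f, ← assoc x, hx, zero_comp, neg_zero]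
    rw [← zero_comp (f := ir ≫ g), cancel_mono] at h1
    rw [← cancel_mono f, zero_comp, ← comp_id (x ≫ f), ← tot, Preadditive.comp_add]
    simp only [assoc] at h1 ⊢
    rw [reassoc_of% hx, reassoc_of% h1, zero_comp, zero_comp, add_zero]
  haveI : IsSplitEpi (f ≫ pl) := ⟨⟨s, hs'⟩⟩
  exact isIso_of_mono_of_isSplitEpi (f ≫ pl)

end Abstract

variable {U V W X : Scheme.{u}}

lemma isIso_unit_rpush (j : U ⟶ X) [IsOpenImmersion j] (G : DCoh.D U) :
    IsIso ((adjR j).unit.app ((DCoh.Rpush j).obj G)) :=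
  isIso_of_comp_hom_eq_id _ ((adjR j).right_triangle_components G)

lemma isIso_of_image {O : X.Opens} {G H : DCoh.D X} (f : G ⟶ H)
    (hG : ∃ G' : DCoh.D (O : Scheme.{u}), Nonempty (G ≅ (DCoh.Rpush O.ι).obj G'))
    (hH : ∃ H' : DCoh.D (O : Scheme.{u}), Nonempty (H ≅ (DCoh.Rpush O.ι).obj H'))
    (h : IsIso ((RD O.ι).map f)) : IsIso f := by
  have hu : ∀ {G : DCoh.D X}, (∃ G' : DCoh.D (O : Scheme.{u}), Nonempty (G ≅ (DCoh.Rpush O.ι).obj G')) →
      IsIso ((adjR O.ι).unit.app G) := by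
    rintro G ⟨G', ⟨e⟩⟩
    haveI := isIso_unit_rpush O.ι G'
    exact (NatTrans.isIso_app_iff_of_iso _ e).2 inferInstance
  haveI := hu hG
  haveI := hu hH
  haveI := h
  haveI : IsIso (f ≫ (adjR O.ι).unit.app H) := by
    have := (adjR O.ι).unit.naturality f
    simp only [Functor.id_map] at this
    rw [this]
    exact IsIso.comp_isIso' inferInstance ((DCoh.Rpush O.ι).map_isIso _)
  exact IsIso.of_isIso_comp_right f ((adjR O.ι).unit.app H)

/-- the transpose of an isomorphism is an isomorphism on the opens meeting the two ranges equally -/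
theorem isIso_map_of_inter (j : V ⟶ X) (l : W ⟶ X) (u : U ⟶ X) [IsOpenImmersion j] [IsOpenImmersion l]
    [IsOpenImmersion u] (hO : interO j u = interO l u) {B : DCoh.D V} {C : DCoh.D W}
    (m : (DCoh.Rpush j).obj B ⟶ (DCoh.Rpush l).obj C) (hm : IsIso ((RD l).map m)) : IsIso ((RD u).map m) := by
  have key : ∀ O O' : U.Opens, O = O' →
      (∃ G' : DCoh.D (O : Scheme.{u}), Nonempty ((RD u).obj ((DCoh.Rpush j).obj B) ≅ (DCoh.Rpush O.ι).obj G')) →
      ∃ G' : DCoh.D (O' : Scheme.{u}), Nonempty ((RD u).obj ((DCoh.Rpush j).obj B) ≅ (DCoh.Rpush O'.ι).obj G') := by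
    rintro O O' rfl h
    exact h
  refine isIso_of_image (O := interO l u) _ (key _ _ hO ⟨_, ⟨(bcO j u).app B⟩⟩) ⟨_, ⟨(bcO l u).app C⟩⟩ ?_
  refine (NatIso.isIso_map_iff (rdSquare l u) m).1 ?_
  haveI := hm
  exact (RD (toU l u)).map_isIso _

lemma isIso_of_homEquiv (l : W ⟶ X) [IsOpenImmersion l] {G : DCoh.D X} {C : DCoh.D W} (e : (RD l).obj G ≅ C) :
    IsIso ((RD l).map ((adjR l).homEquiv G C e.hom)) := by
  have h : (RD l).map ((adjR l).homEquiv G C e.hom) ≫ (adjR l).counit.app C = e.hom := by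
    exact ((adjR l).homEquiv_counit (X := G) (Y := C) (g := (adjR l).homEquiv G C e.hom)).symm.trans
      (((adjR l).homEquiv G C).symm_apply_apply e.hom)
  haveI : IsIso ((RD l).map ((adjR l).homEquiv G C e.hom) ≫ (adjR l).counit.app C) := by rw [h]; infer_instance
  exact IsIso.of_isIso_comp_right _ ((adjR l).counit.app C)

/-- **gluing on two opens** -/
theorem exists_glue (ju : U ⟶ X) (jv : V ⟶ X) (jw : W ⟶ X) [IsOpenImmersion ju] [IsOpenImmersion jv]
    [IsOpenImmersion jw] (a : W ⟶ U) (b : W ⟶ V) [IsOpenImmersion a] [IsOpenImmersion b]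
    (ha : a ≫ ju = jw) (hb : b ≫ jv = jw) (hu : interO jv ju = interO jw ju) (hv : interO ju jv = interO jw jv)
    (A : DCoh.D U) (B : DCoh.D V) (c : (RD a).obj A ≅ (RD b).obj B) :
    ∃ F : DCoh.D X, Nonempty ((RD ju).obj F ≅ A) ∧ Nonempty ((RD jv).obj F ≅ B) := by
  let P := (DCoh.Rpush ju).obj A
  let Q := (DCoh.Rpush jv).obj B
  let C := (RD a).obj A
  let e1 : (RD jw).obj P ≅ C := (rdCongr ha.symm).app P ≪≫ (rdComp a ju).app P ≪≫
    (RD a).mapIso (asIso ((adjR ju).counit.app A))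
  let e2 : (RD jw).obj Q ≅ C := (rdCongr hb.symm).app Q ≪≫ (rdComp b jv).app Q ≪≫
    (RD b).mapIso (asIso ((adjR jv).counit.app B)) ≪≫ c.symm
  let m1 := (adjR jw).homEquiv P C e1.hom
  let m2 := (adjR jw).homEquiv Q C e2.hom
  obtain ⟨F, f, h, hT⟩ := distinguished_cocone_triangle₁ (biprod.desc m1 m2)
  refine ⟨F, ?_, ?_⟩
  · let R := RD ju
    have hi : IsIso (R.map (biprod.inr : Q ⟶ P ⊞ Q) ≫ R.map (biprod.desc m1 m2)) := by
      rw [← R.map_comp, biprod.inr_desc]
      exact isIso_map_of_inter jv jw ju hu m2 (isIso_of_homEquiv jw e2)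
    haveI := isIso_fst _ _ _ (R.map_distinguished _ hT) (R.map (biprod.inl : P ⟶ P ⊞ Q))
      (R.map (biprod.inr : Q ⟶ P ⊞ Q)) (R.map biprod.fst) (R.map biprod.snd)
      (by rw [← R.map_comp, biprod.inl_fst, R.map_id]) (by rw [← R.map_comp, biprod.inr_fst, R.map_zero])
      (by
        rw [← R.map_comp, ← R.map_comp]
        exact R.map_add.symm.trans ((congrArg R.map biprod.total).trans (R.map_id _))) hi
    haveI : IsIso (R.map f ≫ R.map (biprod.fst : P ⊞ Q ⟶ P)) := this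
    exact ⟨asIso (R.map f ≫ R.map biprod.fst) ≪≫ asIso ((adjR ju).counit.app A)⟩
  · let R := RD jv
    have hi : IsIso (R.map (biprod.inl : P ⟶ P ⊞ Q) ≫ R.map (biprod.desc m1 m2)) := by
      rw [← R.map_comp, biprod.inl_desc]
      exact isIso_map_of_inter ju jw jv hv m1 (isIso_of_homEquiv jw e1)
    haveI := isIso_fst _ _ _ (R.map_distinguished _ hT) (R.map (biprod.inr : Q ⟶ P ⊞ Q))
      (R.map (biprod.inl : P ⟶ P ⊞ Q)) (R.map biprod.snd) (R.map biprod.fst)
      (by rw [← R.map_comp, biprod.inr_snd, R.map_id]) (by rw [← R.map_comp, biprod.inl_snd, R.map_zero])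
      (by
        rw [← R.map_comp, ← R.map_comp, add_comm]
        exact R.map_add.symm.trans ((congrArg R.map biprod.total).trans (R.map_id _))) hi
    haveI : IsIso (R.map f ≫ R.map (biprod.snd : P ⊞ Q ⟶ Q)) := this
    exact ⟨asIso (R.map f ≫ R.map biprod.snd) ≪≫ asIso ((adjR jv).counit.app B)⟩

end Groth.Agent.DCohGlue
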